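import Cfsg.Agent.Lib.CosetEnum.He49980.Data

/-! Checks of the certificate. -/

set_option autoImplicit false
set_option maxRecDepth 20000
set_option Elab.async false

namespace Cfsg.Agent.Lib.CosetEnum.He49980

open Cfsg.Agent.Lib.CosetEnum

theorem edges_part3 : allFrom 17142 5714 (edgeAt data 179539 49980 table vert edge) = true := by decide +kernel

theorem edges_part4 : allFrom 22856 5714 (edgeAt data 179539 49980 table vert edge) = true := by decide +kernel

theorem edges_part5 : allFrom 28570 5714 (edgeAt data 179539 49980 table vert edge) = true := by decide +kernel

theorem edges_part6 : allFrom 34284 5714 (edgeAt data 179539 49980 table vert edge) = true := by decide +kernel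

theorem edges_part7 : allFrom 39998 5714 (edgeAt data 179539 49980 table vert edge) = true := by decide +kernel

theorem edges_part8 : allFrom 45712 4268 (edgeAt data 179539 49980 table vert edge) = true := by decide +kernel

end Cfsg.Agent.Lib.CosetEnum.He49980
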