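import Cfsg.Agent.Lib.CosetEnum.He49980.Data

/-! Checks of the certificate. -/

set_option autoImplicit false
set_option maxRecDepth 20000
set_option Elab.async false

namespace Cfsg.Agent.Lib.CosetEnum.He49980

open Cfsg.Agent.Lib.CosetEnum

theorem rels_part0 : allFrom 0 697 (relAt letters.K table letters.RL) = true := by decide +kernel

theorem rels_part1 : allFrom 697 697 (relAt letters.K table letters.RL) = true := by decide +kernel

theorem rels_part2 : allFrom 1394 697 (relAt letters.K table letters.RL) = true := by decide +kernel

theorem rels_part3 : allFrom 2091 697 (relAt letters.K table letters.RL) = true := by decide +kernel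

theorem rels_part4 : allFrom 2788 697 (relAt letters.K table letters.RL) = true := by decide +kernel

theorem rels_part5 : allFrom 3485 697 (relAt letters.K table letters.RL) = true := by decide +kernel

end Cfsg.Agent.Lib.CosetEnum.He49980
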