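import Cfsg.Agent.Lib.CosetEnum.He49980.Data

/-! Checks of the certificate. -/

set_option autoImplicit false
set_option maxRecDepth 20000
set_option Elab.async false

namespace Cfsg.Agent.Lib.CosetEnum.He49980

open Cfsg.Agent.Lib.CosetEnum

theorem rels_part30 : allFrom 20910 697 (relAt letters.K table letters.RL) = true := by decide +kernel

theorem rels_part31 : allFrom 21607 697 (relAt letters.K table letters.RL) = true := by decide +kernel

theorem rels_part32 : allFrom 22304 697 (relAt letters.K table letters.RL) = true := by decide +kernel

theorem rels_part33 : allFrom 23001 697 (relAt letters.K table letters.RL) = true := by decide +kernel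

theorem rels_part34 : allFrom 23698 697 (relAt letters.K table letters.RL) = true := by decide +kernel

theorem rels_part35 : allFrom 24395 697 (relAt letters.K table letters.RL) = true := by decide +kernel

end Cfsg.Agent.Lib.CosetEnum.He49980
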