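import Cfsg.Agent.Lib.CosetEnum.He49980.Data

/-! Checks of the certificate. -/

set_option autoImplicit false
set_option maxRecDepth 20000
set_option Elab.async false

namespace Cfsg.Agent.Lib.CosetEnum.He49980

open Cfsg.Agent.Lib.CosetEnum

theorem rels_part54 : allFrom 37638 697 (relAt letters.K table letters.RL) = true := by decide +kernel

theorem rels_part55 : allFrom 38335 697 (relAt letters.K table letters.RL) = true := by decide +kernel

theorem rels_part56 : allFrom 39032 697 (relAt letters.K table letters.RL) = true := by decide +kernel

theorem rels_part57 : allFrom 39729 697 (relAt letters.K table letters.RL) = true := by decide +kernel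

theorem rels_part58 : allFrom 40426 697 (relAt letters.K table letters.RL) = true := by decide +kernel

theorem rels_part59 : allFrom 41123 697 (relAt letters.K table letters.RL) = true := by decide +kernel

end Cfsg.Agent.Lib.CosetEnum.He49980
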