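import Cfsg.Agent.Lib.CosetEnum.He49980.Data

/-! Checks of the certificate. -/

set_option autoImplicit false
set_option maxRecDepth 20000
set_option Elab.async false

namespace Cfsg.Agent.Lib.CosetEnum.He49980

open Cfsg.Agent.Lib.CosetEnum

theorem rels_part60 : allFrom 41820 697 (relAt letters.K table letters.RL) = true := by decide +kernel

theorem rels_part61 : allFrom 42517 697 (relAt letters.K table letters.RL) = true := by decide +kernel

theorem rels_part62 : allFrom 43214 697 (relAt letters.K table letters.RL) = true := by decide +kernel

theorem rels_part63 : allFrom 43911 697 (relAt letters.K table letters.RL) = true := by decide +kernel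

theorem rels_part64 : allFrom 44608 697 (relAt letters.K table letters.RL) = true := by decide +kernel

theorem rels_part65 : allFrom 45305 697 (relAt letters.K table letters.RL) = true := by decide +kernel

end Cfsg.Agent.Lib.CosetEnum.He49980
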