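import Cfsg.Agent.Lib.CosetEnum.He49980.Check0
import Cfsg.Agent.Lib.CosetEnum.He49980.Check1
import Cfsg.Agent.Lib.CosetEnum.He49980.Check2
import Cfsg.Agent.Lib.CosetEnum.He49980.Check3
import Cfsg.Agent.Lib.CosetEnum.He49980.Check4
import Cfsg.Agent.Lib.CosetEnum.He49980.Check5
import Cfsg.Agent.Lib.CosetEnum.He49980.Check6
import Cfsg.Agent.Lib.CosetEnum.He49980.Check7
import Cfsg.Agent.Lib.CosetEnum.He49980.Check8
import Cfsg.Agent.Lib.CosetEnum.He49980.Check9
import Cfsg.Agent.Lib.CosetEnum.He49980.Check10
import Cfsg.Agent.Lib.CosetEnum.He49980.Check11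
import Cfsg.Agent.Lib.CosetEnum.He49980.Check12
import Cfsg.Agent.Lib.CosetEnum.He49980.Check13
import Cfsg.Agent.Lib.CosetEnum.He49980.Check14
import Cfsg.Agent.Lib.CosetEnum.He49980.Check15
import Cfsg.Agent.Lib.CosetEnum.He49980.Check16
import Cfsg.Agent.Lib.CosetEnum.He49980.Check17
import Cfsg.Agent.Lib.CosetEnum.He49980.Check18
import Cfsg.Agent.Lib.CosetEnum.He49980.Check19
import Cfsg.Agent.Lib.CosetEnum.He49980.Check20
import Cfsg.Agent.Lib.CosetEnum.He49980.Check21
import Cfsg.Agent.Lib.CosetEnum.He49980.Check22
import Cfsg.Agent.Lib.CosetEnum.He49980.Check23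
import Cfsg.Agent.Lib.CosetEnum.He49980.Check24
import Cfsg.Agent.Lib.CosetEnum.He49980.Check25
import Cfsg.Agent.Lib.CosetEnum.He49980.Check26
import Cfsg.Agent.Lib.CosetEnum.He49980.Check27
import Cfsg.Agent.Lib.CosetEnum.He49980.Data

/-! Checks of the certificate. -/

set_option autoImplicit false
set_option maxRecDepth 20000
set_option Elab.async false

namespace Cfsg.Agent.Lib.CosetEnum.He49980

open Cfsg.Agent.Lib.CosetEnum

theorem defs_ok : defsOK data 50795 = true := by decide +kernel

theorem edges_ok : edgesOK data 179539 49980 table vert edge = true :=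
  (allBelow_add (allBelow_add (allBelow_add (allBelow_add (allBelow_add (allBelow_add (allBelow_add (allBelow_add (allBelow_add (rfl : allBelow 0 (edgeAt data 179539 49980 table vert edge) = true) edges_part0
    (by omega : 0 + 5714 = 5714)) edges_part1
    (by omega : 5714 + 5714 = 11428)) edges_part2
    (by omega : 11428 + 5714 = 17142)) edges_part3
    (by omega : 17142 + 5714 = 22856)) edges_part4
    (by omega : 22856 + 5714 = 28570)) edges_part5
    (by omega : 28570 + 5714 = 34284)) edges_part6
    (by omega : 34284 + 5714 = 39998)) edges_part7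
    (by omega : 39998 + 5714 = 45712)) edges_part8
    (by omega : 45712 + 4268 = 49980))

theorem perm_ok : permOK letters.K letters.IV 49980 table = true :=
  (allBelow_add (allBelow_add (allBelow_add (allBelow_add (allBelow_add (allBelow_add (rfl : allBelow 0 (permAt letters.K letters.IV 49980 table) = true) perm_part0
    (by omega : 0 + 8571 = 8571)) perm_part1
    (by omega : 8571 + 8571 = 17142)) perm_part2
    (by omega : 17142 + 8571 = 25713)) perm_part3
    (by omega : 25713 + 8571 = 34284)) perm_part4
    (by omega : 34284 + 8571 = 42855)) perm_part5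
    (by omega : 42855 + 7125 = 49980))

theorem rels_ok : relsOK letters.K 49980 table letters.RL = true :=
  (allBelow_add (allBelow_add (allBelow_add (allBelow_add (allBelow_add (allBelow_add (allBelow_add (allBelow_add (allBelow_add (allBelow_add (allBelow_add (allBelow_add (allBelow_add (allBelow_add (allBelow_add (allBelow_add (allBelow_add (allBelow_add (allBelow_add (allBelow_add (allBelow_add (allBelow_add (allBelow_add (allBelow_add (allBelow_add (allBelow_add (allBelow_add (allBelow_add (allBelow_add (allBelow_add (allBelow_add (allBelow_add (allBelow_add (allBelow_add (allBelow_add (allBelow_add (allBelow_add (allBelow_add (allBelow_add (allBelow_add (allBelow_add (allBelow_add (allBelow_add (allBelow_add (allBelow_add (allBelow_add (allBelow_add (allBelow_add (allBelow_add (allBelow_add (allBelow_add (allBelow_add (allBelow_add (allBelow_add (allBelow_add (allBelow_add (allBelow_add (allBelow_add (allBelow_add (allBelow_add (allBelow_add (allBelow_add (allBelow_add (allBelow_add (allBelow_add (allBelow_add (allBelow_add (allBelow_add (allBelow_add (allBelow_add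 (allBelow_add (allBelow_add (rfl : allBelow 0 (relAt letters.K table letters.RL) = true) rels_part0
    (by omega : 0 + 697 = 697)) rels_part1
    (by omega : 697 + 697 = 1394)) rels_part2
    (by omega : 1394 + 697 = 2091)) rels_part3
    (by omega : 2091 + 697 = 2788)) rels_part4
    (by omega : 2788 + 697 = 3485)) rels_part5
    (by omega : 3485 + 697 = 4182)) rels_part6
    (by omega : 4182 + 697 = 4879)) rels_part7
    (by omega : 4879 + 697 = 5576)) rels_part8
    (by omega : 5576 + 697 = 6273)) rels_part9
    (by omega : 6273 + 697 = 6970)) rels_part10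
    (by omega : 6970 + 697 = 7667)) rels_part11
    (by omega : 7667 + 697 = 8364)) rels_part12
    (by omega : 8364 + 697 = 9061)) rels_part13
    (by omega : 9061 + 697 = 9758)) rels_part14
    (by omega : 9758 + 697 = 10455)) rels_part15
    (by omega : 10455 + 697 = 11152)) rels_part16
    (by omega : 11152 + 697 = 11849)) rels_part17
    (by omega : 11849 + 697 = 12546)) rels_part18
    (by omega : 12546 + 697 = 13243)) rels_part19
    (by omega : 13243 + 697 = 13940)) rels_part20
    (by omega : 13940 + 697 = 14637)) rels_part21
    (by omega : 14637 + 697 = 15334)) rels_part22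
    (by omega : 15334 + 697 = 16031)) rels_part23
    (by omega : 16031 + 697 = 16728)) rels_part24
    (by omega : 16728 + 697 = 17425)) rels_part25
    (by omega : 17425 + 697 = 18122)) rels_part26
    (by omega : 18122 + 697 = 18819)) rels_part27
    (by omega : 18819 + 697 = 19516)) rels_part28
    (by omega : 19516 + 697 = 20213)) rels_part29
    (by omega : 20213 + 697 = 20910)) rels_part30
    (by omega : 20910 + 697 = 21607)) rels_part31
    (by omega : 21607 + 697 = 22304)) rels_part32
    (by omega : 22304 + 697 = 23001)) rels_part33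
    (by omega : 23001 + 697 = 23698)) rels_part34
    (by omega : 23698 + 697 = 24395)) rels_part35
    (by omega : 24395 + 697 = 25092)) rels_part36
    (by omega : 25092 + 697 = 25789)) rels_part37
    (by omega : 25789 + 697 = 26486)) rels_part38
    (by omega : 26486 + 697 = 27183)) rels_part39
    (by omega : 27183 + 697 = 27880)) rels_part40
    (by omega : 27880 + 697 = 28577)) rels_part41
    (by omega : 28577 + 697 = 29274)) rels_part42
    (by omega : 29274 + 697 = 29971)) rels_part43
    (by omega : 29971 + 697 = 30668)) rels_part44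
    (by omega : 30668 + 697 = 31365)) rels_part45
    (by omega : 31365 + 697 = 32062)) rels_part46
    (by omega : 32062 + 697 = 32759)) rels_part47
    (by omega : 32759 + 697 = 33456)) rels_part48
    (by omega : 33456 + 697 = 34153)) rels_part49
    (by omega : 34153 + 697 = 34850)) rels_part50
    (by omega : 34850 + 697 = 35547)) rels_part51
    (by omega : 35547 + 697 = 36244)) rels_part52
    (by omega : 36244 + 697 = 36941)) rels_part53
    (by omega : 36941 + 697 = 37638)) rels_part54
    (by omega : 37638 + 697 = 38335)) rels_part55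
    (by omega : 38335 + 697 = 39032)) rels_part56
    (by omega : 39032 + 697 = 39729)) rels_part57
    (by omega : 39729 + 697 = 40426)) rels_part58
    (by omega : 40426 + 697 = 41123)) rels_part59
    (by omega : 41123 + 697 = 41820)) rels_part60
    (by omega : 41820 + 697 = 42517)) rels_part61
    (by omega : 42517 + 697 = 43214)) rels_part62
    (by omega : 43214 + 697 = 43911)) rels_part63
    (by omega : 43911 + 697 = 44608)) rels_part64
    (by omega : 44608 + 697 = 45305)) rels_part65
    (by omega : 45305 + 697 = 46002)) rels_part66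
    (by omega : 46002 + 697 = 46699)) rels_part67
    (by omega : 46699 + 697 = 47396)) rels_part68
    (by omega : 47396 + 697 = 48093)) rels_part69
    (by omega : 48093 + 697 = 48790)) rels_part70
    (by omega : 48790 + 697 = 49487)) rels_part71
    (by omega : 49487 + 493 = 49980))

theorem reach_ok : reachOK letters.K 49980 table parent = true := by decide +kernel

theorem letters_ok : letters.OK := by
  refine ⟨by decide +kernel, by decide +kernel, ?_, ?_, ?_⟩ <;> decide +kernel

theorem table_ok : TableOK letters 49980 table where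
  col a := by cases a <;> decide +kernel
  symcol := by decide +kernel
  invol := by decide +kernel
  perm := perm_ok
  rel l hl i hi := relsOK_rel rels_ok hi hl

/-- The enumerated index and action. -/
theorem enum : Enumerated letters
    (Cfsg.Spor.coxRelators Cfsg.Spor.He.edges ∪ {r | r ∈ Cfsg.Spor.He.extra})
    (subOf letters _ subWords) 49980 table :=
  enumerated letters _
    (sameRels_cox letters [Cfsg.Spor.He.Gen.a, Cfsg.Spor.He.Gen.b, Cfsg.Spor.He.Gen.c, Cfsg.Spor.He.Gen.d, Cfsg.Spor.He.Gen.e, Cfsg.Spor.He.Gen.f, Cfsg.Spor.He.Gen.g] _ _ rfl (by decide +kernel))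
    letters_ok 49980 table parent (by omega) table_ok reach_ok data 50795 179539 rfl subWords
    (by decide +kernel)
    (fun φ hφ => hφ ▸ Letters.valid (sameRels_cox letters [Cfsg.Spor.He.Gen.a, Cfsg.Spor.He.Gen.b, Cfsg.Spor.He.Gen.c, Cfsg.Spor.He.Gen.d, Cfsg.Spor.He.Gen.e, Cfsg.Spor.He.Gen.f, Cfsg.Spor.He.Gen.g] _ _ rfl
      (by decide +kernel)).1 letters_ok table_ok.col rfl rfl subWords (by decide +kernel) rfl rfl
      (by decide +kernel))
    (fun φ hV => (chunks_sound hV part80 part80_ok.1 part80_ok.2
      (chunks_sound hV part79 part79_ok.1 part79_ok.2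
      (chunks_sound hV part78 part78_ok.1 part78_ok.2
      (chunks_sound hV part77 part77_ok.1 part77_ok.2
      (chunks_sound hV part76 part76_ok.1 part76_ok.2
      (chunks_sound hV part75 part75_ok.1 part75_ok.2
      (chunks_sound hV part74 part74_ok.1 part74_ok.2
      (chunks_sound hV part73 part73_ok.1 part73_ok.2
      (chunks_sound hV part72 part72_ok.1 part72_ok.2
      (chunks_sound hV part71 part71_ok.1 part71_ok.2
      (chunks_sound hV part70 part70_ok.1 part70_ok.2
      (chunks_sound hV part69 part69_ok.1 part69_ok.2
      (chunks_sound hV part68 part68_ok.1 part68_ok.2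
      (chunks_sound hV part67 part67_ok.1 part67_ok.2
      (chunks_sound hV part66 part66_ok.1 part66_ok.2
      (chunks_sound hV part65 part65_ok.1 part65_ok.2
      (chunks_sound hV part64 part64_ok.1 part64_ok.2
      (chunks_sound hV part63 part63_ok.1 part63_ok.2
      (chunks_sound hV part62 part62_ok.1 part62_ok.2
      (chunks_sound hV part61 part61_ok.1 part61_ok.2
      (chunks_sound hV part60 part60_ok.1 part60_ok.2
      (chunks_sound hV part59 part59_ok.1 part59_ok.2
      (chunks_sound hV part58 part58_ok.1 part58_ok.2
      (chunks_sound hV part57 part57_ok.1 part57_ok.2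
      (chunks_sound hV part56 part56_ok.1 part56_ok.2
      (chunks_sound hV part55 part55_ok.1 part55_ok.2
      (chunks_sound hV part54 part54_ok.1 part54_ok.2
      (chunks_sound hV part53 part53_ok.1 part53_ok.2
      (chunks_sound hV part52 part52_ok.1 part52_ok.2
      (chunks_sound hV part51 part51_ok.1 part51_ok.2
      (chunks_sound hV part50 part50_ok.1 part50_ok.2
      (chunks_sound hV part49 part49_ok.1 part49_ok.2
      (chunks_sound hV part48 part48_ok.1 part48_ok.2
      (chunks_sound hV part47 part47_ok.1 part47_ok.2
      (chunks_sound hV part46 part46_ok.1 part46_ok.2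
      (chunks_sound hV part45 part45_ok.1 part45_ok.2
      (chunks_sound hV part44 part44_ok.1 part44_ok.2
      (chunks_sound hV part43 part43_ok.1 part43_ok.2
      (chunks_sound hV part42 part42_ok.1 part42_ok.2
      (chunks_sound hV part41 part41_ok.1 part41_ok.2
      (chunks_sound hV part40 part40_ok.1 part40_ok.2
      (chunks_sound hV part39 part39_ok.1 part39_ok.2
      (chunks_sound hV part38 part38_ok.1 part38_ok.2
      (chunks_sound hV part37 part37_ok.1 part37_ok.2
      (chunks_sound hV part36 part36_ok.1 part36_ok.2
      (chunks_sound hV part35 part35_ok.1 part35_ok.2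
      (chunks_sound hV part34 part34_ok.1 part34_ok.2
      (chunks_sound hV part33 part33_ok.1 part33_ok.2
      (chunks_sound hV part32 part32_ok.1 part32_ok.2
      (chunks_sound hV part31 part31_ok.1 part31_ok.2
      (chunks_sound hV part30 part30_ok.1 part30_ok.2
      (chunks_sound hV part29 part29_ok.1 part29_ok.2
      (chunks_sound hV part28 part28_ok.1 part28_ok.2
      (chunks_sound hV part27 part27_ok.1 part27_ok.2
      (chunks_sound hV part26 part26_ok.1 part26_ok.2
      (chunks_sound hV part25 part25_ok.1 part25_ok.2
      (chunks_sound hV part24 part24_ok.1 part24_ok.2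
      (chunks_sound hV part23 part23_ok.1 part23_ok.2
      (chunks_sound hV part22 part22_ok.1 part22_ok.2
      (chunks_sound hV part21 part21_ok.1 part21_ok.2
      (chunks_sound hV part20 part20_ok.1 part20_ok.2
      (chunks_sound hV part19 part19_ok.1 part19_ok.2
      (chunks_sound hV part18 part18_ok.1 part18_ok.2
      (chunks_sound hV part17 part17_ok.1 part17_ok.2
      (chunks_sound hV part16 part16_ok.1 part16_ok.2
      (chunks_sound hV part15 part15_ok.1 part15_ok.2
      (chunks_sound hV part14 part14_ok.1 part14_ok.2
      (chunks_sound hV part13 part13_ok.1 part13_ok.2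
      (chunks_sound hV part12 part12_ok.1 part12_ok.2
      (chunks_sound hV part11 part11_ok.1 part11_ok.2
      (chunks_sound hV part10 part10_ok.1 part10_ok.2
      (chunks_sound hV part9 part9_ok.1 part9_ok.2
      (chunks_sound hV part8 part8_ok.1 part8_ok.2
      (chunks_sound hV part7 part7_ok.1 part7_ok.2
      (chunks_sound hV part6 part6_ok.1 part6_ok.2
      (chunks_sound hV part5 part5_ok.1 part5_ok.2
      (chunks_sound hV part4 part4_ok.1 part4_ok.2
      (chunks_sound hV part3 part3_ok.1 part3_ok.2
      (chunks_sound hV part2 part2_ok.1 part2_ok.2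
      (chunks_sound hV part1 part1_ok.1 part1_ok.2
      (chunks_sound hV part0 part0_ok.1 part0_ok.2
      (fun i hi => good_defs defs_ok hi)))))))))))))))))))))))))))))))))))))))))))))))))))))))))))))))))))))))))))))))))))
    vert edge (by decide +kernel) edges_ok

/-- The relator set. -/
abbrev pres : Set (FreeGroup Cfsg.Spor.He.Gen) := Cfsg.Spor.coxRelators Cfsg.Spor.He.edges ∪ {r | r ∈ Cfsg.Spor.He.extra}

theorem rels_mem : ∀ r ∈ letters.rels, r ∈ pres :=
  (sameRels_cox letters [Cfsg.Spor.He.Gen.a, Cfsg.Spor.He.Gen.b, Cfsg.Spor.He.Gen.c, Cfsg.Spor.He.Gen.d, Cfsg.Spor.He.Gen.e, Cfsg.Spor.He.Gen.f, Cfsg.Spor.He.Gen.g] _ _ rfl (by decide +kernel)).1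

/-- The statement's form of the subgroup. -/
theorem index_eq :
    ((Subgroup.closure ({Cfsg.Spor.He.a, Cfsg.Spor.He.c, Cfsg.Spor.He.d, Cfsg.Spor.He.e, Cfsg.Spor.He.f, Cfsg.Spor.He.g} : Set (FreeGroup Cfsg.Spor.He.Gen))).map
      (PresentedGroup.mk (Cfsg.Spor.coxRelators Cfsg.Spor.He.edges ∪ {r | r ∈ Cfsg.Spor.He.extra}))).index = 49980 := by
  rw [map_closure_eq_subOf letters _ subWords (by decide +kernel) [Cfsg.Spor.He.a, Cfsg.Spor.He.c, Cfsg.Spor.He.d, Cfsg.Spor.He.e, Cfsg.Spor.He.f, Cfsg.Spor.He.g] (by decide +kernel) _
    (by ext; simp)]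
  exact enum.index

end Cfsg.Agent.Lib.CosetEnum.He49980
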